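import Groth.Prelude.Def_Grpd
import Groth.Agent.FinGrpdLib.Field
import Mathlib.FieldTheory.IsAlgClosed.Classification
import Mathlib.Algebra.MvPolynomial.Cardinal

/-!
Every point of a groupoid on a field becomes rational for both structure maps after a large algebraically closed
extension.
-/

set_option autoImplicit false
set_option backward.isDefEq.respectTransparency false
universe u

open CategoryTheory CategoryTheory.Limits AlgebraicGeometry
open scoped Cardinal

noncomputable section

namespace Groth.Agent.GrpdPointLib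

/-- A transcendence basis of an algebraically closed field much bigger than the base has its cardinality. -/
theorem mk_basis_eq {k K : Type u} [Field k] [Field K] [IsAlgClosed K] [Algebra k K] {ι : Type u} {v : ι → K}
    (hv : IsTranscendenceBasis k v) (hbig : max #k ℵ₀ < #K) : #ι = #K := by
  refine le_antisymm (Cardinal.mk_le_of_injective hv.1.injective) ?_
  have h := IsAlgClosed.cardinal_le_max_transcendence_basis' v hv
  by_contra hlt
  rw [not_le] at hlt
  exact (lt_irrefl _) (h.trans_lt (max_lt (max_lt ((le_max_left _ _).trans_lt hbig) hlt)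
    ((le_max_right _ _).trans_lt hbig)))

/-- Two embeddings of `k` into big algebraically closed fields of equal cardinality are conjugate. -/
theorem exists_equiv {k K L : Type u} [Field k] [Field K] [IsAlgClosed K] [Algebra k K] [Field L] [IsAlgClosed L]
    [Algebra k L] (hK : max #k ℵ₀ < #K) (hKL : #K = #L) :
    ∃ e : K ≃+* L, ∀ x, e (algebraMap k K x) = algebraMap k L x := by
  obtain ⟨s, hs⟩ := exists_isTranscendenceBasis k K
  obtain ⟨t, ht⟩ := exists_isTranscendenceBasis k L
  obtain ⟨e⟩ := Cardinal.eq.1 (((mk_basis_eq hs hK).trans hKL).trans (mk_basis_eq ht (hKL ▸ hK)).symm)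
  let A := Algebra.adjoin k (Set.range ((↑) : s → K))
  let B := Algebra.adjoin k (Set.range ((↑) : t → L))
  letI := IsAlgClosed.isAlgClosure_of_transcendence_basis _ hs
  letI := IsAlgClosed.isAlgClosure_of_transcendence_basis _ ht
  let eAB : A ≃ₐ[k] B := hs.1.aevalEquiv.symm.trans ((MvPolynomial.renameEquiv k e).trans ht.1.aevalEquiv)
  refine ⟨IsAlgClosure.equivOfEquiv K L eAB.toRingEquiv, fun x => ?_⟩
  rw [IsScalarTower.algebraMap_apply k A K, IsAlgClosure.equivOfEquiv_algebraMap,
    show eAB.toRingEquiv (algebraMap k A x) = algebraMap k B x from eAB.commutes x,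
    ← IsScalarTower.algebraMap_apply]

/-- An algebraically closed extension as big as wanted. -/
theorem exists_big (κ : Type u) [Field κ] :
    ∃ (Ω : Type u) (_ : Field Ω) (_ : IsAlgClosed Ω) (_ : Algebra κ Ω), max #κ ℵ₀ < #Ω := by
  let I := Set (κ × ULift.{u} ℕ)
  let P := MvPolynomial I κ
  let F := FractionRing P
  refine ⟨AlgebraicClosure F, inferInstance, inferInstance,
    ((algebraMap F (AlgebraicClosure F)).comp (algebraMap κ F)).toAlgebra, ?_⟩
  have h1 : #I ≤ #(AlgebraicClosure F) :=
    Cardinal.mk_le_of_injective (f := fun i : I => algebraMap F (AlgebraicClosure F) (algebraMap P F (MvPolynomial.X i)))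
      fun i j h => MvPolynomial.X_injective (IsFractionRing.injective P F ((algebraMap F _).injective h))
  refine lt_of_lt_of_le ?_ h1
  rw [Cardinal.mk_set]
  refine lt_of_le_of_lt ?_ (Cardinal.cantor _)
  refine max_le (Cardinal.mk_le_of_injective (f := fun a : κ => (a, ULift.up 0)) fun a b h => congrArg Prod.fst h) ?_
  calc ℵ₀ = #(ULift.{u} ℕ) := by simp
    _ ≤ _ := Cardinal.mk_le_of_injective (f := fun n : ULift.{u} ℕ => ((0 : κ), n)) fun a b h => congrArg Prod.snd h

theorem isIso_residueFieldMap_of_section {X Y Z : Scheme.{u}} (ρ : Z ⟶ X) (pr : X ⟶ Y) [IsIso (ρ ≫ pr)] (z : Z) :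
    IsIso (pr.residueFieldMap (ρ z)) := by
  have h : IsIso ((ρ ≫ pr).residueFieldMap z) := inferInstance
  rw [Scheme.residueFieldMap_comp] at h
  have hb := ConcreteCategory.bijective_of_isIso (pr.residueFieldMap (ρ z) ≫ ρ.residueFieldMap z)
  replace hb : Function.Bijective (⇑(ρ.residueFieldMap z).hom ∘ ⇑(pr.residueFieldMap (ρ z)).hom) := hb
  exact (ConcreteCategory.isIso_iff_bijective (pr.residueFieldMap (ρ z))).2
    ((Function.Bijective.of_comp_iff' ⟨(ρ.residueFieldMap z).hom.injective, hb.2.of_comp⟩ _).1 hb)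

variable {S : Scheme.{u}} (G : Grpd.GroupoidScheme S) {k : Type u} [Field k]

/-- Points become rational on both sides. -/
theorem exists_rational (eU : G.U ≅ Spec (CommRingCat.of k)) (r : G.R) :
    ∃ (k' : Type u) (_ : Field k') (_ : IsAlgClosed k') (_ : Algebra k k'),
      ∃ r' : ↑(pullback (pullback.snd (Spec.map (CommRingCat.ofHom (algebraMap k k')) ≫ eU.inv) G.t ≫ G.s)
          (Spec.map (CommRingCat.ofHom (algebraMap k k')) ≫ eU.inv)),
      (pullback.fst (pullback.snd (Spec.map (CommRingCat.ofHom (algebraMap k k')) ≫ eU.inv) G.t ≫ G.s)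
          (Spec.map (CommRingCat.ofHom (algebraMap k k')) ≫ eU.inv) ≫
        pullback.snd (Spec.map (CommRingCat.ofHom (algebraMap k k')) ≫ eU.inv) G.t) r' = r ∧
      IsIso ((pullback.snd (pullback.snd (Spec.map (CommRingCat.ofHom (algebraMap k k')) ≫ eU.inv) G.t ≫ G.s)
        (Spec.map (CommRingCat.ofHom (algebraMap k k')) ≫ eU.inv)).residueFieldMap r') ∧
      IsIso ((pullback.fst (pullback.snd (Spec.map (CommRingCat.ofHom (algebraMap k k')) ≫ eU.inv) G.t ≫ G.s)
          (Spec.map (CommRingCat.ofHom (algebraMap k k')) ≫ eU.inv) ≫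
        pullback.fst (Spec.map (CommRingCat.ofHom (algebraMap k k')) ≫ eU.inv) G.t).residueFieldMap r') := by
  obtain ⟨Ω, _, _, _, hbig⟩ := exists_big (G.R.residueField r)
  let ρ : Spec (CommRingCat.of Ω) ⟶ G.R :=
    Spec.map (CommRingCat.ofHom (algebraMap (G.R.residueField r) Ω)) ≫ G.R.fromSpecResidueField r
  have hρ : ρ (IsLocalRing.closedPoint Ω) = r := by
    rw [Scheme.Hom.comp_apply]
    exact Scheme.fromSpecResidueField_apply _ _
  let as := Spec.preimage (ρ ≫ G.s ≫ eU.hom)
  let at' := Spec.preimage (ρ ≫ G.t ≫ eU.hom)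
  have hs : Spec.map as ≫ eU.inv = ρ ≫ G.s := by simp [as]
  have ht : Spec.map at' ≫ eU.inv = ρ ≫ G.t := by simp [at']
  let κs := Spec.preimage ((G.R.fromSpecResidueField r) ≫ G.s ≫ eU.hom)
  have hk : #k ≤ #(G.R.residueField r) := Cardinal.mk_le_of_injective κs.hom.injective
  have hbig' : max #k ℵ₀ < #Ω := lt_of_le_of_lt (max_le_max hk le_rfl) hbig
  obtain ⟨θ, hθ⟩ := @exists_equiv k Ω Ω _ _ _ as.hom.toAlgebra _ _ at'.hom.toAlgebra hbig' rfl
  letI : Algebra k Ω := as.hom.toAlgebra
  let g := Spec.map (CommRingCat.ofHom (algebraMap k Ω)) ≫ eU.inv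
  have hg : g = ρ ≫ G.s := hs
  let σ : Spec (CommRingCat.of Ω) ⟶ Spec (CommRingCat.of Ω) := Spec.map (CommRingCat.ofHom θ.toRingHom)
  haveI : IsIso σ := inferInstanceAs (IsIso (Spec.map θ.toCommRingCatIso.hom))
  have hσ : σ ≫ g = ρ ≫ G.t := by
    rw [← ht, ← Category.assoc, ← Spec.map_comp]
    congr 2
    ext x
    exact hθ x
  let R₁ := pullback.snd g G.t ≫ G.s
  let z : Spec (CommRingCat.of Ω) ⟶ pullback R₁ g :=
    pullback.lift (pullback.lift σ ρ hσ) (𝟙 _) (by simp [R₁, hg])
  refine ⟨Ω, inferInstance, inferInstance, inferInstance, z (IsLocalRing.closedPoint Ω), ?_, ?_, ?_⟩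
  · show (pullback.fst R₁ g ≫ pullback.snd g G.t) (z (IsLocalRing.closedPoint Ω)) = r
    rw [← Scheme.Hom.comp_apply]
    simp only [z, pullback.lift_fst_assoc, pullback.lift_snd]
    exact hρ
  · show IsIso ((pullback.snd R₁ g).residueFieldMap (z (IsLocalRing.closedPoint Ω)))
    haveI : IsIso (z ≫ pullback.snd R₁ g) := by simp only [z, pullback.lift_snd]; infer_instance
    exact isIso_residueFieldMap_of_section z _ _
  · show IsIso ((pullback.fst R₁ g ≫ pullback.fst g G.t).residueFieldMap (z (IsLocalRing.closedPoint Ω)))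
    haveI : IsIso (z ≫ pullback.fst R₁ g ≫ pullback.fst g G.t) := by
      simp only [z, pullback.lift_fst_assoc, pullback.lift_fst]; infer_instance
    exact isIso_residueFieldMap_of_section z _ _

end Groth.Agent.GrpdPointLib
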